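import Cfsg.Agent.Lib.Helper9.TCData.Fi23C2.Main

set_option autoImplicit false
set_option maxRecDepth 1000000

namespace Cfsg.Agent.Helper9.TCData.Fi23C2
open Cfsg.Agent.Helper9.TC2

theorem m1_0 : allRange 0 793 (fun u => chkM1 tab u) = true := by decide +kernel

theorem m1_1 : allRange 793 793 (fun u => chkM1 tab u) = true := by decide +kernel

theorem m1_2 : allRange 1586 793 (fun u => chkM1 tab u) = true := by decide +kernel

theorem m1_3 : allRange 2379 780 (fun u => chkM1 tab u) = true := by decide +kernel

theorem ma_0 : allRange 0 1082 (fun u => chkAux tab aux u) = true := by decide +kernel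

theorem ma_1 : allRange 1082 1082 (fun u => chkAux tab aux u) = true := by decide +kernel

theorem ma_2 : allRange 2164 995 (fun u => chkAux tab aux u) = true := by decide +kernel

theorem m2_0 : allRange 0 99 (fun u => chkFix tab mwordsA u) = true := by decide +kernel


end Cfsg.Agent.Helper9.TCData.Fi23C2
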