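import Cfsg.Agent.Lib.Helper9.TCData.Fi23C2.Main

set_option autoImplicit false
set_option maxRecDepth 1000000

namespace Cfsg.Agent.Helper9.TCData.Fi23C2
open Cfsg.Agent.Helper9.TC2

theorem e2_6 : allRange 13840 2826 (fun u => chkE tab 2 u) = true := by decide +kernel

theorem e2_7 : allRange 16666 3955 (fun u => chkE tab 2 u) = true := by decide +kernel

theorem e3_0 : allRange 0 2432 (fun u => chkE tab 3 u) = true := by decide +kernel

theorem e3_1 : allRange 2432 2293 (fun u => chkE tab 3 u) = true := by decide +kernel

theorem e3_2 : allRange 4725 2315 (fun u => chkE tab 3 u) = true := by decide +kernel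

theorem e3_3 : allRange 7040 2281 (fun u => chkE tab 3 u) = true := by decide +kernel

theorem e3_4 : allRange 9321 2331 (fun u => chkE tab 3 u) = true := by decide +kernel

theorem e3_5 : allRange 11652 2319 (fun u => chkE tab 3 u) = true := by decide +kernel


end Cfsg.Agent.Helper9.TCData.Fi23C2
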