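import Cfsg.Agent.Lib.Helper9.TCData.Fi23C2.Main

set_option autoImplicit false
set_option maxRecDepth 1000000

namespace Cfsg.Agent.Helper9.TCData.Fi23C2
open Cfsg.Agent.Helper9.TC2

theorem e3_6 : allRange 13971 3028 (fun u => chkE tab 3 u) = true := by decide +kernel

theorem e3_7 : allRange 16999 3622 (fun u => chkE tab 3 u) = true := by decide +kernel

theorem e4_0 : allRange 0 2415 (fun u => chkE tab 4 u) = true := by decide +kernel

theorem e4_1 : allRange 2415 2375 (fun u => chkE tab 4 u) = true := by decide +kernel

theorem e4_2 : allRange 4790 2372 (fun u => chkE tab 4 u) = true := by decide +kernel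

theorem e4_3 : allRange 7162 2333 (fun u => chkE tab 4 u) = true := by decide +kernel

theorem e4_4 : allRange 9495 2301 (fun u => chkE tab 4 u) = true := by decide +kernel

theorem e4_5 : allRange 11796 2285 (fun u => chkE tab 4 u) = true := by decide +kernel


end Cfsg.Agent.Helper9.TCData.Fi23C2
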