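import Cfsg.Agent.Lib.Helper9.TCData.Fi23C2.Main

set_option autoImplicit false
set_option maxRecDepth 1000000

namespace Cfsg.Agent.Helper9.TCData.Fi23C2
open Cfsg.Agent.Helper9.TC2

theorem e6_6 : allRange 17368 3253 (fun u => chkE tab 6 u) = true := by decide +kernel

theorem e7_0 : allRange 0 2395 (fun u => chkE tab 7 u) = true := by decide +kernel

theorem e7_1 : allRange 2395 2617 (fun u => chkE tab 7 u) = true := by decide +kernel

theorem e7_2 : allRange 5012 3023 (fun u => chkE tab 7 u) = true := by decide +kernel

theorem e7_3 : allRange 8035 3018 (fun u => chkE tab 7 u) = true := by decide +kernel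

theorem e7_4 : allRange 11053 3278 (fun u => chkE tab 7 u) = true := by decide +kernel

theorem e7_5 : allRange 14331 4985 (fun u => chkE tab 7 u) = true := by decide +kernel

theorem e7_6 : allRange 19316 1305 (fun u => chkE tab 7 u) = true := by decide +kernel


end Cfsg.Agent.Helper9.TCData.Fi23C2
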