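import Cfsg.Agent.Lib.Helper9.TCData.Fi23C2.Main

set_option autoImplicit false
set_option maxRecDepth 1000000

namespace Cfsg.Agent.Helper9.TCData.Fi23C2
open Cfsg.Agent.Helper9.TC2

theorem l_0 : allRange 0 3211 (fun u => chkL tab u) = true := by decide +kernel

theorem l_1 : allRange 3211 2101 (fun u => chkL tab u) = true := by decide +kernel

theorem l_2 : allRange 5312 1860 (fun u => chkL tab u) = true := by decide +kernel

theorem l_3 : allRange 7172 1853 (fun u => chkL tab u) = true := by decide +kernel

theorem l_4 : allRange 9025 1687 (fun u => chkL tab u) = true := by decide +kernel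

theorem l_5 : allRange 10712 1731 (fun u => chkL tab u) = true := by decide +kernel

theorem l_6 : allRange 12443 1661 (fun u => chkL tab u) = true := by decide +kernel

theorem l_7 : allRange 14104 1655 (fun u => chkL tab u) = true := by decide +kernel


end Cfsg.Agent.Helper9.TCData.Fi23C2
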