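import Cfsg.Agent.Lib.Helper9.TCData.Fi23C2.S0
import Cfsg.Agent.Lib.Helper9.TCData.Fi23C2.S1
import Cfsg.Agent.Lib.Helper9.TCData.Fi23C2.S2
import Cfsg.Agent.Lib.Helper9.TCData.Fi23C2.S3
import Cfsg.Agent.Lib.Helper9.TCData.Fi23C2.S4
import Cfsg.Agent.Lib.Helper9.TCData.Fi23C2.S5
import Cfsg.Agent.Lib.Helper9.TCData.Fi23C2.S6
import Cfsg.Agent.Lib.Helper9.TCData.Fi23C2.S7
import Cfsg.Agent.Lib.Helper9.TCData.Fi23C2.S8
import Cfsg.Agent.Lib.Helper9.TCData.Fi23C2.S9
import Cfsg.Agent.Lib.Helper9.TCData.Fi23C2.S10
import Cfsg.Agent.Lib.Helper9.TCData.Fi23C2.S11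
import Cfsg.Agent.Lib.Helper9.TCData.Fi23C2.S12
import Cfsg.Agent.Lib.Helper9.TCData.Fi23C2.S13
import Cfsg.Agent.Lib.Helper9.TCData.Fi23C2.S14
import Cfsg.Agent.Lib.Helper9.TCData.Fi23C2.S15
import Cfsg.Agent.Lib.Helper9.TCData.Fi23C2.S16
import Cfsg.Agent.Lib.Helper9.TCData.Fi23C2.S17

set_option autoImplicit false
set_option maxRecDepth 1000000

namespace Cfsg.Agent.Helper9.TCData.Fi23C2
open Cfsg.Agent.Helper9.TC2


theorem hE0 : ∀ u < 20621, chkE tab 0 u = true := by
  have h0 : ∀ u < 0, (fun u => chkE tab 0 u) u = true := range_zero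
  have h1 : ∀ u < 2115, (fun u => chkE tab 0 u) u = true := ext_range (a := 0) (len := 2115) h0 e0_0
  have h2 : ∀ u < 4257, (fun u => chkE tab 0 u) u = true := ext_range (a := 2115) (len := 2142) h1 e0_1
  have h3 : ∀ u < 6438, (fun u => chkE tab 0 u) u = true := ext_range (a := 4257) (len := 2181) h2 e0_2
  have h4 : ∀ u < 8599, (fun u => chkE tab 0 u) u = true := ext_range (a := 6438) (len := 2161) h3 e0_3
  have h5 : ∀ u < 10810, (fun u => chkE tab 0 u) u = true := ext_range (a := 8599) (len := 2211) h4 e0_4
  have h6 : ∀ u < 12999, (fun u => chkE tab 0 u) u = true := ext_range (a := 10810) (len := 2189) h5 e0_5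
  have h7 : ∀ u < 15240, (fun u => chkE tab 0 u) u = true := ext_range (a := 12999) (len := 2241) h6 e0_6
  have h8 : ∀ u < 20170, (fun u => chkE tab 0 u) u = true := ext_range (a := 15240) (len := 4930) h7 e0_7
  have h9 : ∀ u < 20621, (fun u => chkE tab 0 u) u = true := ext_range (a := 20170) (len := 451) h8 e0_8
  exact h9

theorem hE1 : ∀ u < 20621, chkE tab 1 u = true := by
  have h0 : ∀ u < 0, (fun u => chkE tab 1 u) u = true := range_zero
  have h1 : ∀ u < 2145, (fun u => chkE tab 1 u) u = true := ext_range (a := 0) (len := 2145) h0 e1_0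
  have h2 : ∀ u < 4357, (fun u => chkE tab 1 u) u = true := ext_range (a := 2145) (len := 2212) h1 e1_1
  have h3 : ∀ u < 6506, (fun u => chkE tab 1 u) u = true := ext_range (a := 4357) (len := 2149) h2 e1_2
  have h4 : ∀ u < 8691, (fun u => chkE tab 1 u) u = true := ext_range (a := 6506) (len := 2185) h3 e1_3
  have h5 : ∀ u < 10892, (fun u => chkE tab 1 u) u = true := ext_range (a := 8691) (len := 2201) h4 e1_4
  have h6 : ∀ u < 13109, (fun u => chkE tab 1 u) u = true := ext_range (a := 10892) (len := 2217) h5 e1_5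
  have h7 : ∀ u < 15384, (fun u => chkE tab 1 u) u = true := ext_range (a := 13109) (len := 2275) h6 e1_6
  have h8 : ∀ u < 20604, (fun u => chkE tab 1 u) u = true := ext_range (a := 15384) (len := 5220) h7 e1_7
  have h9 : ∀ u < 20621, (fun u => chkE tab 1 u) u = true := ext_range (a := 20604) (len := 17) h8 e1_8
  exact h9

theorem hE2 : ∀ u < 20621, chkE tab 2 u = true := by
  have h0 : ∀ u < 0, (fun u => chkE tab 2 u) u = true := range_zero
  have h1 : ∀ u < 2270, (fun u => chkE tab 2 u) u = true := ext_range (a := 0) (len := 2270) h0 e2_0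
  have h2 : ∀ u < 4498, (fun u => chkE tab 2 u) u = true := ext_range (a := 2270) (len := 2228) h1 e2_1
  have h3 : ∀ u < 6811, (fun u => chkE tab 2 u) u = true := ext_range (a := 4498) (len := 2313) h2 e2_2
  have h4 : ∀ u < 9154, (fun u => chkE tab 2 u) u = true := ext_range (a := 6811) (len := 2343) h3 e2_3
  have h5 : ∀ u < 11495, (fun u => chkE tab 2 u) u = true := ext_range (a := 9154) (len := 2341) h4 e2_4
  have h6 : ∀ u < 13840, (fun u => chkE tab 2 u) u = true := ext_range (a := 11495) (len := 2345) h5 e2_5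
  have h7 : ∀ u < 16666, (fun u => chkE tab 2 u) u = true := ext_range (a := 13840) (len := 2826) h6 e2_6
  have h8 : ∀ u < 20621, (fun u => chkE tab 2 u) u = true := ext_range (a := 16666) (len := 3955) h7 e2_7
  exact h8

theorem hE3 : ∀ u < 20621, chkE tab 3 u = true := by
  have h0 : ∀ u < 0, (fun u => chkE tab 3 u) u = true := range_zero
  have h1 : ∀ u < 2432, (fun u => chkE tab 3 u) u = true := ext_range (a := 0) (len := 2432) h0 e3_0
  have h2 : ∀ u < 4725, (fun u => chkE tab 3 u) u = true := ext_range (a := 2432) (len := 2293) h1 e3_1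
  have h3 : ∀ u < 7040, (fun u => chkE tab 3 u) u = true := ext_range (a := 4725) (len := 2315) h2 e3_2
  have h4 : ∀ u < 9321, (fun u => chkE tab 3 u) u = true := ext_range (a := 7040) (len := 2281) h3 e3_3
  have h5 : ∀ u < 11652, (fun u => chkE tab 3 u) u = true := ext_range (a := 9321) (len := 2331) h4 e3_4
  have h6 : ∀ u < 13971, (fun u => chkE tab 3 u) u = true := ext_range (a := 11652) (len := 2319) h5 e3_5
  have h7 : ∀ u < 16999, (fun u => chkE tab 3 u) u = true := ext_range (a := 13971) (len := 3028) h6 e3_6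
  have h8 : ∀ u < 20621, (fun u => chkE tab 3 u) u = true := ext_range (a := 16999) (len := 3622) h7 e3_7
  exact h8

theorem hE4 : ∀ u < 20621, chkE tab 4 u = true := by
  have h0 : ∀ u < 0, (fun u => chkE tab 4 u) u = true := range_zero
  have h1 : ∀ u < 2415, (fun u => chkE tab 4 u) u = true := ext_range (a := 0) (len := 2415) h0 e4_0
  have h2 : ∀ u < 4790, (fun u => chkE tab 4 u) u = true := ext_range (a := 2415) (len := 2375) h1 e4_1
  have h3 : ∀ u < 7162, (fun u => chkE tab 4 u) u = true := ext_range (a := 4790) (len := 2372) h2 e4_2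
  have h4 : ∀ u < 9495, (fun u => chkE tab 4 u) u = true := ext_range (a := 7162) (len := 2333) h3 e4_3
  have h5 : ∀ u < 11796, (fun u => chkE tab 4 u) u = true := ext_range (a := 9495) (len := 2301) h4 e4_4
  have h6 : ∀ u < 14081, (fun u => chkE tab 4 u) u = true := ext_range (a := 11796) (len := 2285) h5 e4_5
  have h7 : ∀ u < 17031, (fun u => chkE tab 4 u) u = true := ext_range (a := 14081) (len := 2950) h6 e4_6
  have h8 : ∀ u < 20621, (fun u => chkE tab 4 u) u = true := ext_range (a := 17031) (len := 3590) h7 e4_7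
  exact h8

theorem hE5 : ∀ u < 20621, chkE tab 5 u = true := by
  have h0 : ∀ u < 0, (fun u => chkE tab 5 u) u = true := range_zero
  have h1 : ∀ u < 2237, (fun u => chkE tab 5 u) u = true := ext_range (a := 0) (len := 2237) h0 e5_0
  have h2 : ∀ u < 4778, (fun u => chkE tab 5 u) u = true := ext_range (a := 2237) (len := 2541) h1 e5_1
  have h3 : ∀ u < 7336, (fun u => chkE tab 5 u) u = true := ext_range (a := 4778) (len := 2558) h2 e5_2
  have h4 : ∀ u < 9752, (fun u => chkE tab 5 u) u = true := ext_range (a := 7336) (len := 2416) h3 e5_3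
  have h5 : ∀ u < 12129, (fun u => chkE tab 5 u) u = true := ext_range (a := 9752) (len := 2377) h4 e5_4
  have h6 : ∀ u < 14521, (fun u => chkE tab 5 u) u = true := ext_range (a := 12129) (len := 2392) h5 e5_5
  have h7 : ∀ u < 18150, (fun u => chkE tab 5 u) u = true := ext_range (a := 14521) (len := 3629) h6 e5_6
  have h8 : ∀ u < 20621, (fun u => chkE tab 5 u) u = true := ext_range (a := 18150) (len := 2471) h7 e5_7
  exact h8

theorem hE6 : ∀ u < 20621, chkE tab 6 u = true := by
  have h0 : ∀ u < 0, (fun u => chkE tab 6 u) u = true := range_zero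
  have h1 : ∀ u < 2507, (fun u => chkE tab 6 u) u = true := ext_range (a := 0) (len := 2507) h0 e6_0
  have h2 : ∀ u < 5284, (fun u => chkE tab 6 u) u = true := ext_range (a := 2507) (len := 2777) h1 e6_1
  have h3 : ∀ u < 8125, (fun u => chkE tab 6 u) u = true := ext_range (a := 5284) (len := 2841) h2 e6_2
  have h4 : ∀ u < 10971, (fun u => chkE tab 6 u) u = true := ext_range (a := 8125) (len := 2846) h3 e6_3
  have h5 : ∀ u < 13799, (fun u => chkE tab 6 u) u = true := ext_range (a := 10971) (len := 2828) h4 e6_4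
  have h6 : ∀ u < 17368, (fun u => chkE tab 6 u) u = true := ext_range (a := 13799) (len := 3569) h5 e6_5
  have h7 : ∀ u < 20621, (fun u => chkE tab 6 u) u = true := ext_range (a := 17368) (len := 3253) h6 e6_6
  exact h7

theorem hE7 : ∀ u < 20621, chkE tab 7 u = true := by
  have h0 : ∀ u < 0, (fun u => chkE tab 7 u) u = true := range_zero
  have h1 : ∀ u < 2395, (fun u => chkE tab 7 u) u = true := ext_range (a := 0) (len := 2395) h0 e7_0
  have h2 : ∀ u < 5012, (fun u => chkE tab 7 u) u = true := ext_range (a := 2395) (len := 2617) h1 e7_1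
  have h3 : ∀ u < 8035, (fun u => chkE tab 7 u) u = true := ext_range (a := 5012) (len := 3023) h2 e7_2
  have h4 : ∀ u < 11053, (fun u => chkE tab 7 u) u = true := ext_range (a := 8035) (len := 3018) h3 e7_3
  have h5 : ∀ u < 14331, (fun u => chkE tab 7 u) u = true := ext_range (a := 11053) (len := 3278) h4 e7_4
  have h6 : ∀ u < 19316, (fun u => chkE tab 7 u) u = true := ext_range (a := 14331) (len := 4985) h5 e7_5
  have h7 : ∀ u < 20621, (fun u => chkE tab 7 u) u = true := ext_range (a := 19316) (len := 1305) h6 e7_6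
  exact h7

theorem hL : ∀ u < 20621, chkL tab u = true := by
  have h0 : ∀ u < 0, (fun u => chkL tab u) u = true := range_zero
  have h1 : ∀ u < 3211, (fun u => chkL tab u) u = true := ext_range (a := 0) (len := 3211) h0 l_0
  have h2 : ∀ u < 5312, (fun u => chkL tab u) u = true := ext_range (a := 3211) (len := 2101) h1 l_1
  have h3 : ∀ u < 7172, (fun u => chkL tab u) u = true := ext_range (a := 5312) (len := 1860) h2 l_2
  have h4 : ∀ u < 9025, (fun u => chkL tab u) u = true := ext_range (a := 7172) (len := 1853) h3 l_3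
  have h5 : ∀ u < 10712, (fun u => chkL tab u) u = true := ext_range (a := 9025) (len := 1687) h4 l_4
  have h6 : ∀ u < 12443, (fun u => chkL tab u) u = true := ext_range (a := 10712) (len := 1731) h5 l_5
  have h7 : ∀ u < 14104, (fun u => chkL tab u) u = true := ext_range (a := 12443) (len := 1661) h6 l_6
  have h8 : ∀ u < 15759, (fun u => chkL tab u) u = true := ext_range (a := 14104) (len := 1655) h7 l_7
  have h9 : ∀ u < 17369, (fun u => chkL tab u) u = true := ext_range (a := 15759) (len := 1610) h8 l_8
  have h10 : ∀ u < 19022, (fun u => chkL tab u) u = true := ext_range (a := 17369) (len := 1653) h9 l_9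
  have h11 : ∀ u < 20621, (fun u => chkL tab u) u = true := ext_range (a := 19022) (len := 1599) h10 l_10
  exact h11

theorem hF : ∀ u < 3159, chkFin tab u = true := by
  have h0 : ∀ u < 0, (fun u => chkFin tab u) u = true := range_zero
  have h1 : ∀ u < 308, (fun u => chkFin tab u) u = true := ext_range (a := 0) (len := 308) h0 f_0
  have h2 : ∀ u < 616, (fun u => chkFin tab u) u = true := ext_range (a := 308) (len := 308) h1 f_1
  have h3 : ∀ u < 924, (fun u => chkFin tab u) u = true := ext_range (a := 616) (len := 308) h2 f_2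
  have h4 : ∀ u < 1232, (fun u => chkFin tab u) u = true := ext_range (a := 924) (len := 308) h3 f_3
  have h5 : ∀ u < 1540, (fun u => chkFin tab u) u = true := ext_range (a := 1232) (len := 308) h4 f_4
  have h6 : ∀ u < 1848, (fun u => chkFin tab u) u = true := ext_range (a := 1540) (len := 308) h5 f_5
  have h7 : ∀ u < 2156, (fun u => chkFin tab u) u = true := ext_range (a := 1848) (len := 308) h6 f_6
  have h8 : ∀ u < 2464, (fun u => chkFin tab u) u = true := ext_range (a := 2156) (len := 308) h7 f_7
  have h9 : ∀ u < 2772, (fun u => chkFin tab u) u = true := ext_range (a := 2464) (len := 308) h8 f_8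
  have h10 : ∀ u < 3080, (fun u => chkFin tab u) u = true := ext_range (a := 2772) (len := 308) h9 f_9
  have h11 : ∀ u < 3159, (fun u => chkFin tab u) u = true := ext_range (a := 3080) (len := 79) h10 f_10
  exact h11

theorem hC : ∀ u < 20621, chkCls tab u = true := by
  have h0 : ∀ u < 0, (fun u => chkCls tab u) u = true := range_zero
  have h1 : ∀ u < 2667, (fun u => chkCls tab u) u = true := ext_range (a := 0) (len := 2667) h0 c_0
  have h2 : ∀ u < 5334, (fun u => chkCls tab u) u = true := ext_range (a := 2667) (len := 2667) h1 c_1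
  have h3 : ∀ u < 8001, (fun u => chkCls tab u) u = true := ext_range (a := 5334) (len := 2667) h2 c_2
  have h4 : ∀ u < 10668, (fun u => chkCls tab u) u = true := ext_range (a := 8001) (len := 2667) h3 c_3
  have h5 : ∀ u < 13335, (fun u => chkCls tab u) u = true := ext_range (a := 10668) (len := 2667) h4 c_4
  have h6 : ∀ u < 16002, (fun u => chkCls tab u) u = true := ext_range (a := 13335) (len := 2667) h5 c_5
  have h7 : ∀ u < 18669, (fun u => chkCls tab u) u = true := ext_range (a := 16002) (len := 2667) h6 c_6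
  have h8 : ∀ u < 20621, (fun u => chkCls tab u) u = true := ext_range (a := 18669) (len := 1952) h7 c_7
  exact h8

theorem hM1 : ∀ u < 3159, chkM1 tab u = true := by
  have h0 : ∀ u < 0, (fun u => chkM1 tab u) u = true := range_zero
  have h1 : ∀ u < 793, (fun u => chkM1 tab u) u = true := ext_range (a := 0) (len := 793) h0 m1_0
  have h2 : ∀ u < 1586, (fun u => chkM1 tab u) u = true := ext_range (a := 793) (len := 793) h1 m1_1
  have h3 : ∀ u < 2379, (fun u => chkM1 tab u) u = true := ext_range (a := 1586) (len := 793) h2 m1_2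
  have h4 : ∀ u < 3159, (fun u => chkM1 tab u) u = true := ext_range (a := 2379) (len := 780) h3 m1_3
  exact h4

theorem hMA : ∀ u < 3159, chkAux tab aux u = true := by
  have h0 : ∀ u < 0, (fun u => chkAux tab aux u) u = true := range_zero
  have h1 : ∀ u < 1082, (fun u => chkAux tab aux u) u = true := ext_range (a := 0) (len := 1082) h0 ma_0
  have h2 : ∀ u < 2164, (fun u => chkAux tab aux u) u = true := ext_range (a := 1082) (len := 1082) h1 ma_1
  have h3 : ∀ u < 3159, (fun u => chkAux tab aux u) u = true := ext_range (a := 2164) (len := 995) h2 ma_2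
  exact h3

theorem hM2A : ∀ u < 3159, chkFix tab mwordsA u = true := by
  have h0 : ∀ u < 0, (fun u => chkFix tab mwordsA u) u = true := range_zero
  have h1 : ∀ u < 99, (fun u => chkFix tab mwordsA u) u = true := ext_range (a := 0) (len := 99) h0 m2_0
  have h2 : ∀ u < 198, (fun u => chkFix tab mwordsA u) u = true := ext_range (a := 99) (len := 99) h1 m2_1
  have h3 : ∀ u < 297, (fun u => chkFix tab mwordsA u) u = true := ext_range (a := 198) (len := 99) h2 m2_2
  have h4 : ∀ u < 396, (fun u => chkFix tab mwordsA u) u = true := ext_range (a := 297) (len := 99) h3 m2_3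
  have h5 : ∀ u < 495, (fun u => chkFix tab mwordsA u) u = true := ext_range (a := 396) (len := 99) h4 m2_4
  have h6 : ∀ u < 594, (fun u => chkFix tab mwordsA u) u = true := ext_range (a := 495) (len := 99) h5 m2_5
  have h7 : ∀ u < 693, (fun u => chkFix tab mwordsA u) u = true := ext_range (a := 594) (len := 99) h6 m2_6
  have h8 : ∀ u < 792, (fun u => chkFix tab mwordsA u) u = true := ext_range (a := 693) (len := 99) h7 m2_7
  have h9 : ∀ u < 891, (fun u => chkFix tab mwordsA u) u = true := ext_range (a := 792) (len := 99) h8 m2_8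
  have h10 : ∀ u < 990, (fun u => chkFix tab mwordsA u) u = true := ext_range (a := 891) (len := 99) h9 m2_9
  have h11 : ∀ u < 1089, (fun u => chkFix tab mwordsA u) u = true := ext_range (a := 990) (len := 99) h10 m2_10
  have h12 : ∀ u < 1188, (fun u => chkFix tab mwordsA u) u = true := ext_range (a := 1089) (len := 99) h11 m2_11
  have h13 : ∀ u < 1287, (fun u => chkFix tab mwordsA u) u = true := ext_range (a := 1188) (len := 99) h12 m2_12
  have h14 : ∀ u < 1386, (fun u => chkFix tab mwordsA u) u = true := ext_range (a := 1287) (len := 99) h13 m2_13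
  have h15 : ∀ u < 1485, (fun u => chkFix tab mwordsA u) u = true := ext_range (a := 1386) (len := 99) h14 m2_14
  have h16 : ∀ u < 1584, (fun u => chkFix tab mwordsA u) u = true := ext_range (a := 1485) (len := 99) h15 m2_15
  have h17 : ∀ u < 1683, (fun u => chkFix tab mwordsA u) u = true := ext_range (a := 1584) (len := 99) h16 m2_16
  have h18 : ∀ u < 1782, (fun u => chkFix tab mwordsA u) u = true := ext_range (a := 1683) (len := 99) h17 m2_17
  have h19 : ∀ u < 1881, (fun u => chkFix tab mwordsA u) u = true := ext_range (a := 1782) (len := 99) h18 m2_18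
  have h20 : ∀ u < 1980, (fun u => chkFix tab mwordsA u) u = true := ext_range (a := 1881) (len := 99) h19 m2_19
  have h21 : ∀ u < 2079, (fun u => chkFix tab mwordsA u) u = true := ext_range (a := 1980) (len := 99) h20 m2_20
  have h22 : ∀ u < 2178, (fun u => chkFix tab mwordsA u) u = true := ext_range (a := 2079) (len := 99) h21 m2_21
  have h23 : ∀ u < 2277, (fun u => chkFix tab mwordsA u) u = true := ext_range (a := 2178) (len := 99) h22 m2_22
  have h24 : ∀ u < 2376, (fun u => chkFix tab mwordsA u) u = true := ext_range (a := 2277) (len := 99) h23 m2_23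
  have h25 : ∀ u < 2475, (fun u => chkFix tab mwordsA u) u = true := ext_range (a := 2376) (len := 99) h24 m2_24
  have h26 : ∀ u < 2574, (fun u => chkFix tab mwordsA u) u = true := ext_range (a := 2475) (len := 99) h25 m2_25
  have h27 : ∀ u < 2673, (fun u => chkFix tab mwordsA u) u = true := ext_range (a := 2574) (len := 99) h26 m2_26
  have h28 : ∀ u < 2772, (fun u => chkFix tab mwordsA u) u = true := ext_range (a := 2673) (len := 99) h27 m2_27
  have h29 : ∀ u < 2871, (fun u => chkFix tab mwordsA u) u = true := ext_range (a := 2772) (len := 99) h28 m2_28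
  have h30 : ∀ u < 2970, (fun u => chkFix tab mwordsA u) u = true := ext_range (a := 2871) (len := 99) h29 m2_29
  have h31 : ∀ u < 3069, (fun u => chkFix tab mwordsA u) u = true := ext_range (a := 2970) (len := 99) h30 m2_30
  have h32 : ∀ u < 3159, (fun u => chkFix tab mwordsA u) u = true := ext_range (a := 3069) (len := 90) h31 m2_31
  exact h32

theorem hE : ∀ c < 8, ∀ u < 20621, chkE tab c u = true := by
  intro c hc
  interval_cases c
  · exact hE0
  · exact hE1
  · exact hE2
  · exact hE3
  · exact hE4
  · exact hE5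
  · exact hE6
  · exact hE7

end Cfsg.Agent.Helper9.TCData.Fi23C2
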